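import Cfsg.Agent.H494.TC.Base
import Cfsg.Agent.H210.TC.Row

/-!
# S2464: the row predicate `T6` (helper777)

`T6 G` : two elements of order prime to 6 such that every `g ≠ 1` is a product of a conjugate of the first and a
conjugate of the second.
-/

set_option autoImplicit false

namespace Cfsg.Agent.H777.T6

/-- the conclusion of S2464 -/
def T6 (G : Type*) [Group G] : Prop :=
  ∃ x y : G, Nat.Coprime (orderOf x) 6 ∧ Nat.Coprime (orderOf y) 6 ∧
    ∀ g : G, g ≠ 1 → ∃ u v : G, g = (u * x * u⁻¹) * (v * y * v⁻¹)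

variable {G H : Type*} [Group G] [Group H]

theorem T6.of_equiv (e : G ≃* H) (h : T6 H) : T6 G := by
  obtain ⟨x, y, hx, hy, h⟩ := h
  refine ⟨e.symm x, e.symm y, by rwa [MulEquiv.orderOf_eq], by rwa [MulEquiv.orderOf_eq], fun g hg => ?_⟩
  obtain ⟨u, v, e'⟩ := h (e g) (by
    intro h1
    exact hg (e.injective (by rw [h1, map_one])))
  refine ⟨e.symm u, e.symm v, e.injective ?_⟩
  rw [e']
  simp

theorem T6.congr (e : G ≃* H) (h : T6 G) : T6 H := h.of_equiv e.symm

theorem T6.of_row3 (h : Cfsg.Agent.H210.TC.Row3 G) : T6 G := h.s2464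

theorem T6.of_pp (h : Cfsg.Agent.H494.TC.PP G) : T6 G := h.cop

/-- the form with one element `x` and its inverse, or any second element conjugate to a power -/
theorem T6.of_pair {x y : G} (hx : Nat.Coprime (orderOf x) 6) (hy : Nat.Coprime (orderOf y) 6)
    (h : ∀ g : G, g ≠ 1 → ∃ u v : G, g = (u * x * u⁻¹) * (v * y * v⁻¹)) : T6 G := ⟨x, y, hx, hy, h⟩

end Cfsg.Agent.H777.T6
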